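import Mathlib
import Cfsg.Agent.BlocksChars.IsaacsOdd.Orbit
import Cfsg.Agent.BlocksChars.PrimeDegrees
import Cfsg.Agent.Lib.CharTheory.IndBasic

/-!
# Groups with bounded character degrees

The tools: bounded degree passes to subgroups and quotients, halves in the kernel of a nonabelian
quotient, and a character irreducible on a subgroup but vanishing off a normal one bounds the index.
-/

set_option linter.style.haveILetI false
set_option linter.unusedSectionVars false

namespace Cfsg.Agent.BlocksChars.BoundedDegree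

open Cfsg.Agent.Characters Cfsg.Agent.CharTheory Cfsg.Agent.BlocksChars
open scoped ComplexConjugate

universe u

variable {G : Type u} [Group G]

/-- All irreducible degrees are at most `n`. -/
def Bd (G : Type u) [Group G] (n : ℕ) : Prop :=
  ∀ (χ : G → ℂ) (d : ℕ), Cfsg.IsIrrCharacter G χ → χ 1 = (d : ℂ) → d ≤ n

theorem Bd.mono {n m : ℕ} (h : Bd G n) (hnm : n ≤ m) : Bd G m :=
  fun χ d hχ hd => (h χ d hχ hd).trans hnm

theorem isCommutative_of_bd [Finite G] {n : ℕ} (h : Bd G n) (hn : n ≤ 1) (a b : G) :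
    a * b = b * a := by
  refine comm_of_forall_degree_one (fun χ => ?_) a b
  obtain ⟨d, hd, hχ⟩ := irr_one_pos χ.2
  rw [hχ, show d = 1 by have := h _ d χ.2 hχ; omega, Nat.cast_one]

variable [Fintype G]

/-- Degrees over a character of a subgroup. -/
theorem exists_over (H : Subgroup G) [Fintype H] {η : H → ℂ} (hη : Cfsg.IsIrrCharacter H η) {d : ℕ}
    (hd : η 1 = (d : ℂ)) :
    ∃ (χ : G → ℂ) (a m : ℕ), Cfsg.IsIrrCharacter G χ ∧ χ 1 = (a : ℂ) ∧
      Cfsg.classInner (fun h : H => χ h) η = (m : ℂ) ∧ m ≠ 0 ∧ m * d ≤ a := by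
  obtain ⟨χ, hχ, hover⟩ := IsaacsOdd.exists_irr_over H hη
  obtain ⟨a, -, ha⟩ := irr_one_pos hχ
  obtain ⟨m, hm⟩ := classInner_char_nat (isCharacter_restrict H (isCharacter_of_isIrr hχ))
    (isCharacter_of_isIrr hη)
  refine ⟨χ, a, m, hχ, ha, hm, fun h => hover (by rw [hm, h, Nat.cast_zero]), ?_⟩
  exact Basics.degree_le (isCharacter_restrict H (isCharacter_of_isIrr hχ)) hη hm ha hd

theorem Bd.subgroup {n : ℕ} (h : Bd G n) (H : Subgroup G) : Bd H n := by
  intro η d hη hd
  haveI := Fintype.ofFinite H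
  obtain ⟨χ, a, m, hχ, ha, -, hm0, hle⟩ := exists_over H hη hd
  exact (Nat.le_mul_of_pos_left d (Nat.pos_of_ne_zero hm0)).trans (hle.trans (h χ a hχ ha))

theorem Bd.quotient {n : ℕ} (h : Bd G n) (K : Subgroup G) [K.Normal] : Bd (G ⧸ K) n :=
  fun χ d hχ hd => h (χ ∘ QuotientGroup.mk' K) d
    (isIrrCharacter_comp_surjective _ (QuotientGroup.mk'_surjective K) hχ)
    (by simpa [QuotientGroup.mk'_apply] using hd)

/-- A product with a character of constant absolute value on cosets stays irreducible. -/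
theorem isIrr_mul_scalar (N : Subgroup G) [N.Normal] [Fintype N] {χ η : G → ℂ}
    (hχ : Cfsg.IsIrrCharacter G χ) (hχN : Cfsg.IsIrrCharacter N (fun n : N => χ n))
    (hη : Cfsg.IsIrrCharacter G η)
    (hh : ∀ (n : N) (g : G), η ((n : G) * g) * conj (η ((n : G) * g)) = η g * conj (η g)) :
    Cfsg.IsIrrCharacter G (η * χ) := by
  refine isIrr_of_isCharacter_of_norm_one
    (isCharacter_mul (isCharacter_of_isIrr hη) (isCharacter_of_isIrr hχ)) ?_
  have h1 := classInner_isIrr_self hη
  rw [classInner_def] at h1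
  rw [classInner_def, ← h1]
  congr 1
  have h2 := Average.sum_avg_mul N (fun g => χ g * conj (χ g)) (fun g => η g * conj (η g)) hh
  have h4 : ∀ g, Average.avg N (fun g => χ g * conj (χ g)) g = 1 := fun g =>
    congrFun (Average.quotChar_self N hχ hχN) g
  simp only [h4, one_mul] at h2
  rw [h2]
  exact Finset.sum_congr rfl fun g _ => by
    simp only [Pi.mul_apply, map_mul]; ring

/-- A character extending one of a subgroup is irreducible there. -/
theorem restrict_eq_of_degree (H : Subgroup G) [Fintype H] {χ : G → ℂ} {η : H → ℂ}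
    (hχ : Cfsg.IsIrrCharacter G χ) (hη : Cfsg.IsIrrCharacter H η)
    (hover : Cfsg.classInner (fun h : H => χ h) η ≠ 0) {a d : ℕ} (ha : χ 1 = (a : ℂ))
    (hd : η 1 = (d : ℂ)) (hle : a ≤ d) : (fun h : H => χ h) = η := by
  obtain ⟨m, hm⟩ := classInner_char_nat (isCharacter_restrict H (isCharacter_of_isIrr hχ))
    (isCharacter_of_isIrr hη)
  have hm0 : m ≠ 0 := fun h => hover (by rw [hm, h, Nat.cast_zero])
  obtain ⟨d', hd', hd1⟩ := irr_one_pos hη
  obtain rfl : d' = d := by exact_mod_cast hd1.symm.trans hd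
  have hle' := Basics.degree_le (isCharacter_restrict H (isCharacter_of_isIrr hχ)) hη hm
    (show (fun h : H => χ h) 1 = (a : ℂ) from ha) hd
  have hm1 : m = 1 := by
    have h1 : m * d' ≤ 1 * d' := by omega
    have := Nat.le_of_mul_le_mul_right h1 hd'
    omega
  have h2 : a = d' := by subst hm1; omega
  have h := Basics.eq_of_degree_eq (isCharacter_restrict H (isCharacter_of_isIrr hχ)) hη hm
    (show χ 1 = (m : ℂ) * η 1 by rw [ha, hd, h2, hm1, Nat.cast_one, one_mul])
  rw [h, hm1, Nat.cast_one, one_smul]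

/-- A nonabelian quotient halves the degrees in its kernel. -/
theorem Bd.half {n : ℕ} (h : Bd G n) (K : Subgroup G) [K.Normal]
    (hQ : ∃ a b : G ⧸ K, a * b ≠ b * a) : Bd K (n / 2) := by
  intro η d hη hd
  haveI := Fintype.ofFinite K
  obtain ⟨a₀, b₀, hab⟩ := hQ
  obtain ⟨ρ, hρ⟩ : ∃ ρ : Cfsg.IrrCharacter (G ⧸ K), (ρ : G ⧸ K → ℂ) 1 ≠ 1 := by
    by_contra! hh
    exact hab (comm_of_forall_degree_one hh a₀ b₀)
  obtain ⟨r, hr0, hr⟩ := irr_one_pos ρ.2
  have hr2 : 2 ≤ r := by
    by_contra hlt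
    exact hρ (by rw [hr, show r = 1 by omega, Nat.cast_one])
  obtain ⟨χ, a, m, hχ, ha, hm, hm0, hle⟩ := exists_over K hη hd
  have han := h χ a hχ ha
  rw [Nat.le_div_iff_mul_le two_pos]
  by_cases ha2 : d * 2 ≤ a
  · omega
  have hm1 : m = 1 := by
    by_contra hne
    have : 2 * d ≤ m * d := Nat.mul_le_mul_right d (by omega)
    omega
  have hover : Cfsg.classInner (fun k : K => χ k) η ≠ 0 := by
    rw [hm]; exact Nat.cast_ne_zero.2 hm0
  have had : a = d := by
    by_contra hne
    -- a conjugate constituent doubles the degree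
    by_cases hinv : ∀ g : G, Clifford.conjBy K g η = η
    · have hr := congrFun (Clifford.restrict_eq_smul_of_invariant K hχ hη hover hinv) 1
      rw [hm, hm1, Pi.smul_apply, OneMemClass.coe_one, ha, hd, Nat.cast_one, one_smul,
        Nat.cast_inj] at hr
      exact hne hr
    · push Not at hinv
      obtain ⟨g, hg⟩ := hinv
      have hη' := Clifford.isIrrCharacter_conjBy K g hη
      have hm' : Cfsg.classInner (fun k : K => χ k) (Clifford.conjBy K g η) = (m : ℂ) := by
        rw [Clifford.classInner_restrict_conjBy K (char_isClassFunction (isCharacter_of_isIrr hχ)),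
          hm]
      obtain ⟨σ, hσ, he⟩ := Basics.eq_smul_of_degree
        (isCharacter_restrict K (isCharacter_of_isIrr hχ)) hη hm
      have hσg : Cfsg.classInner σ (Clifford.conjBy K g η) = (m : ℂ) := by
        have e := congrArg (fun F => Cfsg.classInner F (Clifford.conjBy K g η)) he
        simp only [classInner_add_left, classInner_smul_left,
          classInner_isIrr_ne hη hη' hg.symm, mul_zero, zero_add, hm'] at e
        exact e.symm
      obtain ⟨c, hc⟩ := char_one_nat hσ
      have hdc := Basics.degree_le hσ hη' hσg hc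
        (show Clifford.conjBy K g η 1 = (d : ℂ) by rw [Clifford.conjBy_at_one, hd])
      have h1 := congrFun he 1
      simp only [Pi.add_apply, Pi.smul_apply, smul_eq_mul, OneMemClass.coe_one, ha, hd, hc] at h1
      have h2 : a = m * d + c := by exact_mod_cast h1
      subst hm1
      omega
  have hres := restrict_eq_of_degree K hχ hη hover ha hd (le_of_eq had)
  have hirr := PrimeDegrees.isIrr_mul_inflated K hχ (by rw [hres]; exact hη)
    (η := (ρ : G ⧸ K → ℂ) ∘ QuotientGroup.mk' K)
    (isIrrCharacter_comp_surjective _ (QuotientGroup.mk'_surjective K) ρ.2) fun k g => by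
      simp only [Function.comp_apply, map_mul, QuotientGroup.mk'_apply,
        (QuotientGroup.eq_one_iff (k : G)).2 k.2, one_mul]
  have hdeg := h _ (r * d) hirr (by
    rw [Pi.mul_apply, Function.comp_apply, map_one, hr, ha, had, Nat.cast_mul])
  have : 2 * d ≤ r * d := Nat.mul_le_mul_right d hr2
  omega

/-- The norm of a restriction to a normal subgroup divides the square of the degree. -/
theorem norm_dvd_sq (N : Subgroup G) [N.Normal] [Fintype N] {χ : G → ℂ}
    (hχ : Cfsg.IsIrrCharacter G χ) {a : ℕ} (ha : χ 1 = (a : ℂ)) :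
    ∃ q : ℕ, Cfsg.classInner (fun x : N => χ x) (fun x : N => χ x) = (q : ℂ) ∧ q ∣ a ^ 2 := by
  classical
  haveI := Fintype.ofFinite (Cfsg.IrrCharacter N)
  have hcl := char_isClassFunction (isCharacter_of_isIrr hχ)
  have hres := isCharacter_restrict N (isCharacter_of_isIrr hχ)
  obtain ⟨θ, hθ, hover⟩ := IsaacsOdd.exists_constituent N hχ
  obtain ⟨m, hm⟩ := classInner_char_nat hres (isCharacter_of_isIrr hθ)
  obtain ⟨b, -, hb⟩ := irr_one_pos hθ
  set O : Finset (Cfsg.IrrCharacter N) := Finset.univ.filter fun ψ =>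
    Cfsg.classInner (fun x : N => χ x) (ψ : N → ℂ) ≠ 0 with hO
  have hOmem : ∀ ψ ∈ O, Cfsg.classInner (fun x : N => χ x) (ψ : N → ℂ) = (m : ℂ) ∧
      (ψ : N → ℂ) 1 = (b : ℂ) := fun ψ hψ => by
    obtain ⟨g, hg⟩ := Clifford.exists_conjBy_eq N hχ hθ ψ.2 hover (Finset.mem_filter.1 hψ).2
    rw [← hg, Clifford.classInner_restrict_conjBy N hcl, Clifford.conjBy_at_one]
    exact ⟨hm, hb⟩
  have hexp := classFun_eq_sum (char_isClassFunction hres)
  refine ⟨O.card * (m * m), ?_, ?_⟩
  · rw [classInner_eq_sum _ (char_isClassFunction hres),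
      ← Finset.sum_subset (Finset.subset_univ O) fun ψ _ hψ => by
        have : Cfsg.classInner (fun x : N => χ x) (ψ : N → ℂ) = 0 := by
          simpa [hO] using hψ
        rw [this, zero_mul]]
    rw [Finset.sum_congr rfl (g := fun _ => (m : ℂ) * m) fun ψ hψ => by
      rw [classInner_conj_symm (fun x : N => χ x) (ψ : N → ℂ), (hOmem ψ hψ).1,
        Complex.conj_natCast], Finset.sum_const, nsmul_eq_mul]
    push_cast
    rfl
  · have h1 := congrFun hexp 1
    rw [Finset.sum_apply,
      ← Finset.sum_subset (Finset.subset_univ O) fun ψ _ hψ => by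
        have : Cfsg.classInner (fun x : N => χ x) (ψ : N → ℂ) = 0 := by
          simpa [hO] using hψ
        rw [this, zero_smul, Pi.zero_apply],
      Finset.sum_congr rfl (g := fun _ => (m : ℂ) * b) fun ψ hψ => by
        rw [Pi.smul_apply, smul_eq_mul, (hOmem ψ hψ).1, (hOmem ψ hψ).2],
      Finset.sum_const, nsmul_eq_mul, OneMemClass.coe_one, ha] at h1
    have h2 : a = O.card * (m * b) := by exact_mod_cast h1
    exact ⟨O.card * (b * b), by rw [h2]; ring⟩

/-- Irreducible on `H` and vanishing on `H` off a normal `K`: the index divides the squared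
degree. -/
theorem relIndex_dvd_sq (K H : Subgroup G) [K.Normal] [Fintype H] (hKH : K ≤ H) {χ : H → ℂ}
    (hχ : Cfsg.IsIrrCharacter H χ) {a : ℕ} (ha : χ 1 = (a : ℂ))
    (hvan : ∀ h : H, (h : G) ∉ K → χ h = 0) : K.relIndex H ∣ a ^ 2 := by
  classical
  haveI := Fintype.ofFinite (K.subgroupOf H)
  obtain ⟨q, hq, hdvd⟩ := norm_dvd_sq (K.subgroupOf H) hχ ha
  suffices h : q = K.relIndex H by rwa [← h]
  have h1 := classInner_isIrr_self hχ
  rw [classInner_def] at h1 hq
  have hs : ∑ x : K.subgroupOf H, χ x * conj (χ x) = ∑ h : H, χ h * conj (χ h) := by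
    rw [← Finset.sum_subtype (Finset.univ.filter fun h : H => h ∈ K.subgroupOf H)
      (fun h => by simp) (fun h => χ h * conj (χ h))]
    refine Finset.sum_subset (Finset.subset_univ _) fun h _ hh => ?_
    rw [hvan h (by simpa [Subgroup.mem_subgroupOf] using hh), zero_mul]
  have hH : (Nat.card H : ℂ) ≠ 0 := natCard_ne_zero
  have h2 : ∑ h : H, χ h * conj (χ h) = (Nat.card H : ℂ) := by
    rw [inv_mul_eq_one₀ hH] at h1
    exact h1.symm
  rw [hs, h2, ← Subgroup.index_mul_card (K.subgroupOf H), Nat.cast_mul, ← mul_assoc,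
    mul_comm ((Nat.card (K.subgroupOf H) : ℂ))⁻¹, mul_assoc,
    inv_mul_cancel₀ natCard_ne_zero, mul_one, Nat.cast_inj] at hq
  exact hq.symm

/-- A character of degree the bound on a subgroup vanishes on elements with a conjugate outside. -/
theorem vanish_of_extends {n : ℕ} (h : Bd G n) (H : Subgroup G) [Fintype H] {ψ : H → ℂ}
    (hψ : Cfsg.IsIrrCharacter H ψ) (hn : ψ 1 = (n : ℂ)) (x : H) {g : G}
    (hg : g⁻¹ * (x : G) * g ∉ H) : ψ x = 0 := by
  classical
  haveI := Fintype.ofFinite (Cfsg.IrrCharacter G)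
  have hres : ∀ χ : Cfsg.IrrCharacter G, Cfsg.classInner (Cfsg.indFun H ψ) (χ : G → ℂ) ≠ 0 →
      (fun y : H => (χ : G → ℂ) y) = ψ := fun χ hχ => by
    obtain ⟨a, -, ha⟩ := irr_one_pos χ.2
    refine restrict_eq_of_degree H χ.2 hψ ?_ ha hn (h _ a χ.2 ha)
    rw [frobenius_reciprocity H ψ (irr_isClassFunction χ), classInner_conj_symm] at hχ
    simpa using hχ
  set c : ℂ := ∑ χ : Cfsg.IrrCharacter G, Cfsg.classInner (Cfsg.indFun H ψ) (χ : G → ℂ) with hc
  have hind : ∀ y : H, Cfsg.indFun H ψ y = c * ψ y := fun y => by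
    have h1 := congrFun (classFun_eq_sum (indFun_isClassFunction H ψ)) (y : G)
    rw [Finset.sum_apply] at h1
    rw [h1, hc, Finset.sum_mul]
    refine Finset.sum_congr rfl fun χ _ => ?_
    rw [Pi.smul_apply, smul_eq_mul]
    by_cases h0 : Cfsg.classInner (Cfsg.indFun H ψ) (χ : G → ℂ) = 0
    · rw [h0, zero_mul, zero_mul]
    · rw [← congrFun (hres χ h0) y]
  have hψ0 : ψ 1 ≠ 0 := irr_one_ne_zero hψ
  have hcidx : c = (H.index : ℂ) := by
    have h1 := hind 1
    rw [OneMemClass.coe_one, indFun_one] at h1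
    exact (mul_right_cancel₀ hψ0 h1).symm
  have hclass : ∀ y : G, ∀ (hy : y⁻¹ * (x : G) * y ∈ H), ψ ⟨y⁻¹ * (x : G) * y, hy⟩ = ψ x := by
    intro y hy
    have e1 := hind ⟨y⁻¹ * (x : G) * y, hy⟩
    rw [IndBasic.indFun_inv_conj, hind x, hcidx] at e1
    exact mul_left_cancel₀ (Nat.cast_ne_zero.2 Subgroup.index_ne_zero_of_finite) e1.symm
  have h2 := IndBasic.card_mul_indFun H ψ (x : G)
  rw [hind x, hcidx] at h2
  set S := Finset.univ.filter fun y : G => y⁻¹ * (x : G) * y ∈ H with hS
  have h3 : ∑ y : G, Cfsg.extendByZero H ψ (y⁻¹ * (x : G) * y) = (S.card : ℂ) * ψ x := by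
    rw [← Finset.sum_subset (Finset.subset_univ S) fun y _ hy =>
        IndBasic.extendByZero_of_notMem H ψ (by simpa [hS] using hy),
      Finset.sum_congr rfl (g := fun _ => ψ x) fun y hy => by
        rw [IndBasic.extendByZero_of_mem H ψ (Finset.mem_filter.1 hy).2, hclass],
      Finset.sum_const, nsmul_eq_mul]
  rw [h3, ← mul_assoc, ← Nat.cast_mul, Subgroup.card_mul_index] at h2
  by_contra hx
  have hlt : S.card < Nat.card G := by
    rw [Nat.card_eq_fintype_card, ← Finset.card_univ]
    exact Finset.card_lt_card ((Finset.ssubset_univ_iff).2 fun e => hg (by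
      have := Finset.mem_univ g
      rw [← e, hS, Finset.mem_filter] at this
      exact this.2))
  exact absurd (Nat.cast_injective (mul_right_cancel₀ hx h2)) hlt.ne'

end Cfsg.Agent.BlocksChars.BoundedDegree
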