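import Mathlib
import Cfsg.Agent.BlocksChars.BoundedDegree.Basic
import Cfsg.Agent.Lib.CharTheory.Extraspecial
import Cfsg.Agent.Lib.Characters.Burnside
import Cfsg.Agent.Recognition.OrderSixty

/-!
# The minimal nonabelian quotient of a group with bounded degrees
-/

set_option linter.style.haveILetI false
set_option linter.unusedSectionVars false

namespace Cfsg.Agent.BlocksChars.BoundedDegree

open Cfsg.Agent.Characters Cfsg.Agent.CharTheory
open scoped ComplexConjugate commutatorElement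

universe u

variable {Q : Type u} [Group Q] [Finite Q]

/-- Nonabelian, with the derived subgroup below every nontrivial normal subgroup. -/
structure MinQ (Q : Type u) [Group Q] : Prop where
  ne : commutator Q ≠ ⊥
  min : ∀ M : Subgroup Q, M.Normal → M ≠ ⊥ → commutator Q ≤ M

theorem comm_mem (a b : Q) : a * b * a⁻¹ * b⁻¹ ∈ commutator Q := by
  rw [commutator_def]
  exact Subgroup.commutator_mem_commutator (Subgroup.mem_top a) (Subgroup.mem_top b)

theorem MinQ.not_comm (hQ : MinQ Q) : ∃ a b : Q, a * b ≠ b * a := by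
  by_contra! h
  refine hQ.ne ?_
  rw [commutator_def, Subgroup.commutator_eq_bot_iff_le_centralizer]
  intro x _
  exact Subgroup.mem_centralizer_iff.2 fun y _ => h y x

theorem MinQ.center_eq_bot (hQ : MinQ Q) (hD : ¬ commutator Q ≤ Subgroup.center Q) :
    Subgroup.center Q = ⊥ := by
  by_contra h
  exact hD (hQ.min _ inferInstance h)

theorem natCard_class (x : Q) :
    (ConjClasses.mk x).carrier.ncard * Nat.card (Subgroup.centralizer ({x} : Set Q)) = Nat.card Q := by
  rw [← Nat.card_coe_set_eq]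
  exact card_carrier_mul_card_centralizer x

/-- Central derived subgroup: a faithful character is scalar on the centre, of index its degree
squared. -/
theorem central_case (hQ : MinQ Q) (hD : commutator Q ≤ Subgroup.center Q) :
    ∃ (ρ : Q → ℂ) (r : ℕ), Cfsg.IsIrrCharacter Q ρ ∧ ρ 1 = (r : ℂ) ∧ 2 ≤ r ∧
      (Subgroup.center Q).index = r ^ 2 ∧
      ∀ z ∈ Subgroup.center Q, ∀ g, ρ (z * g) * conj (ρ (z * g)) = ρ g * conj (ρ g) := by
  classical
  haveI := Fintype.ofFinite Q
  obtain ⟨c₀, hc₀, hc₀1⟩ := (Subgroup.ne_bot_iff_exists_ne_one.1 hQ.ne : ∃ a : commutator Q, a ≠ 1) |>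
    fun ⟨a, ha⟩ => (⟨a, a.2, fun h => ha (Subtype.ext h)⟩ : ∃ c, c ∈ commutator Q ∧ c ≠ 1)
  obtain ⟨ρ, hρc⟩ : ∃ ρ : Cfsg.IrrCharacter Q, (ρ : Q → ℂ) c₀ ≠ (ρ : Q → ℂ) 1 := by
    by_contra! h
    exact hc₀1 (eq_one_of_forall_irr h)
  have hρ := irr_isCharacter ρ
  obtain ⟨r, hr0, hr⟩ := irr_one_pos ρ.2
  have hker : ∀ g, (ρ : Q → ℂ) g = (ρ : Q → ℂ) 1 → g = 1 := fun g hg => by
    by_contra hg1
    have hne : charKernel (ρ : Q → ℂ) hρ ≠ ⊥ := fun h => hg1 (by
      have : g ∈ charKernel (ρ : Q → ℂ) hρ := hg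
      rwa [h, Subgroup.mem_bot] at this)
    exact hρc (hQ.min _ (charKernel_normal hρ) hne hc₀)
  have hr2 : 2 ≤ r := by
    by_contra hlt
    have h1 : (ρ : Q → ℂ) 1 = 1 := by rw [hr, show r = 1 by omega, Nat.cast_one]
    refine hQ.not_comm.elim fun a ⟨b, hab⟩ => hab ?_
    have hm := char_mul_of_degree_one hρ h1
    have h2 : a * b * a⁻¹ * b⁻¹ = 1 := hker _ (by
      rw [hm, hm, hm]
      have ea : (ρ : Q → ℂ) a * (ρ : Q → ℂ) a⁻¹ = 1 := by rw [← hm, mul_inv_cancel, h1]
      have eb : (ρ : Q → ℂ) b * (ρ : Q → ℂ) b⁻¹ = 1 := by rw [← hm, mul_inv_cancel, h1]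
      rw [h1]
      linear_combination ((ρ : Q → ℂ) b * (ρ : Q → ℂ) b⁻¹) * ea + eb)
    rwa [mul_inv_eq_one, mul_inv_eq_iff_eq_mul] at h2
  have habs : ∀ z ∈ Subgroup.center Q, ∀ g, (ρ : Q → ℂ) (z * g) * conj ((ρ : Q → ℂ) (z * g)) =
      (ρ : Q → ℂ) g * conj ((ρ : Q → ℂ) g) := by
    intro z hz g
    obtain ⟨w, hw⟩ := Extraspecial.central_scalar ρ.2 hz
    obtain ⟨w', hw'⟩ := Extraspecial.central_scalar ρ.2 (inv_mem hz)
    have h1 : (ρ : Q → ℂ) z = w * r := by
      have := hw 1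
      rwa [one_mul, hr] at this
    have h2 : (ρ : Q → ℂ) z⁻¹ = conj w * r := by
      rw [char_inv hρ, h1, map_mul, Complex.conj_natCast]
    have h3 : (ρ : Q → ℂ) 1 = w * (ρ : Q → ℂ) z⁻¹ := by
      have := hw z⁻¹
      rwa [inv_mul_cancel] at this
    rw [hr, h2] at h3
    have h4 : w * conj w = 1 := mul_right_cancel₀ (Nat.cast_ne_zero.2 (by omega : r ≠ 0))
      (by rw [one_mul, mul_assoc]; exact h3.symm)
    rw [← Subgroup.mem_center_iff.1 hz g, hw g, map_mul]
    linear_combination ((ρ : Q → ℂ) g * conj ((ρ : Q → ℂ) g)) * h4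
  have hvan : ∀ x, x ∉ Subgroup.center Q → (ρ : Q → ℂ) x = 0 := by
    intro x hx
    rw [Subgroup.mem_center_iff] at hx
    push Not at hx
    obtain ⟨y, hy⟩ := hx
    set c := y * x * y⁻¹ * x⁻¹ with hc
    have hc1 : c ≠ 1 := fun h => hy (by
      rwa [hc, mul_inv_eq_one, mul_inv_eq_iff_eq_mul] at h)
    have hcz : c ∈ Subgroup.center Q := hD (comm_mem y x)
    obtain ⟨w, hw⟩ := Extraspecial.central_scalar ρ.2 hcz
    have h1 : (ρ : Q → ℂ) (x * c) = (ρ : Q → ℂ) x := by
      rw [Subgroup.mem_center_iff.1 hcz x, hc, inv_mul_cancel_right]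
      exact char_isClassFunction hρ x y
    rw [hw] at h1
    by_contra h0
    have hw1 : w = 1 := mul_right_cancel₀ h0 (h1.trans (one_mul _).symm)
    refine hc1 (hker c ?_)
    have := hw 1
    rwa [one_mul, hw1, one_mul] at this
  refine ⟨ρ, r, ρ.2, hr, hr2, ?_, habs⟩
  have h1 := classInner_isIrr_self ρ.2
  rw [classInner_def, inv_mul_eq_one₀ natCard_ne_zero] at h1
  have h2 : ∑ g : Q, (ρ : Q → ℂ) g * conj ((ρ : Q → ℂ) g) =
      (Nat.card (Subgroup.center Q) : ℂ) * (r : ℂ) ^ 2 := by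
    rw [← Finset.sum_subset (Finset.subset_univ (Finset.univ.filter fun g => g ∈ Subgroup.center Q))
      fun g _ hg => by rw [hvan g (by simpa using hg), zero_mul],
      Finset.sum_congr rfl (g := fun _ => (r : ℂ) ^ 2) fun g hg => by
        have := habs g (Finset.mem_filter.1 hg).2 1
        rw [mul_one, hr, Complex.conj_natCast] at this
        rw [this, sq],
      Finset.sum_const, nsmul_eq_mul, Nat.card_eq_fintype_card, ← Fintype.card_subtype]
  rw [h2] at h1
  have h3 : Nat.card Q = Nat.card (Subgroup.center Q) * r ^ 2 := by exact_mod_cast h1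
  refine Nat.eq_of_mul_eq_mul_right (Nat.card_pos (α := Subgroup.center Q)) ?_
  rw [Subgroup.index_mul_card, h3, mul_comm]

/-- Abelian noncentral derived subgroup: self-centralizing, of index a degree, and its nontrivial
linear characters are moved by every outside element. -/
theorem abelian_case (hQ : MinQ Q) (hD : ¬ commutator Q ≤ Subgroup.center Q)
    (hab : ∀ a ∈ commutator Q, ∀ b ∈ commutator Q, a * b = b * a) :
    2 ≤ (commutator Q).index ∧
    (∀ g, g ∉ commutator Q → ∀ d ∈ commutator Q, g * d = d * g → d = 1) ∧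
    ∀ (n : ℕ), Bd Q n → (commutator Q).index ≤ n := by
  classical
  haveI := Fintype.ofFinite Q
  set D := commutator Q with hDdef
  haveI hDn : D.Normal := by rw [hDdef]; infer_instance
  set C := Subgroup.centralizer (D : Set Q) with hC
  have hDC : D ≤ C := fun a ha => Subgroup.mem_centralizer_iff.2 fun b hb => hab b hb a ha
  have hfix : ∀ g, g ∉ C → ∀ d ∈ D, g * d = d * g → d = 1 := by
    intro g hg d hd hgd
    let W : Subgroup Q := D ⊓ Subgroup.centralizer {g}
    have hW : W.Normal := ⟨fun w hw h => by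
      obtain ⟨hwD, hwg⟩ := hw
      refine ⟨hDn.conj_mem w hwD h, Subgroup.mem_centralizer_singleton_iff.2 ?_⟩
      have h1 : g * w = w * g := (Subgroup.mem_centralizer_singleton_iff.1 hwg).symm
      set e := g⁻¹ * h⁻¹ * g * h with he
      have heD : e ∈ D := by
        have := comm_mem (Q := Q) g⁻¹ h⁻¹
        rwa [inv_inv, inv_inv] at this
      have h2 : w * e = e * w := hab w hwD e heD
      calc h * w * h⁻¹ * g = h * (w * (g * e)) * h⁻¹ := by rw [he]; group
        _ = h * (g * (w * e)) * h⁻¹ := by rw [← mul_assoc w, ← h1]; group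
        _ = h * (g * (e * w)) * h⁻¹ := by rw [h2]
        _ = g * (h * w * h⁻¹) := by rw [he]; group⟩
    by_contra hd1
    have hne : W ≠ ⊥ := fun h => hd1 (by
      have : d ∈ W := ⟨hd, Subgroup.mem_centralizer_singleton_iff.2 hgd.symm⟩
      rwa [h, Subgroup.mem_bot] at this)
    exact hg (Subgroup.mem_centralizer_iff.2 fun x hx =>
      Subgroup.mem_centralizer_singleton_iff.1 (hQ.min W hW hne hx).2)
  have hsurj : ∀ g, g ∉ C → ∀ z ∈ D, ∃ d ∈ D, g * d * g⁻¹ * d⁻¹ = z := by
    intro g hg z hz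
    let f : D → D := fun d => ⟨g * d * g⁻¹ * (d : Q)⁻¹, comm_mem g d⟩
    have hf : Function.Injective f := fun a b h => by
      have h' : g * a * g⁻¹ * (a : Q)⁻¹ = g * b * g⁻¹ * (b : Q)⁻¹ := congrArg Subtype.val h
      have e : (a : Q)⁻¹ * b = 1 := by
        refine hfix g hg _ (D.mul_mem (D.inv_mem a.2) b.2) ?_
        have h4 := congrArg (fun t => (a : Q)⁻¹ * g * (g⁻¹ * (g * a * g⁻¹)⁻¹) * t * b * g) h'
        calc g * ((a : Q)⁻¹ * b) = (g * a * g⁻¹)⁻¹ * (g * b * g⁻¹) * g := by group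
          _ = ((g * a * g⁻¹)⁻¹ * (g * b * g⁻¹ * (b : Q)⁻¹)) * b * g := by group
          _ = ((g * a * g⁻¹)⁻¹ * (g * a * g⁻¹ * (a : Q)⁻¹)) * b * g := by rw [h']
          _ = (a : Q)⁻¹ * b * g := by group
      exact Subtype.ext (inv_mul_eq_one.1 e)
    obtain ⟨d, hd⟩ := Finite.injective_iff_surjective.1 hf ⟨z, hz⟩
    exact ⟨d, d.2, congrArg Subtype.val hd⟩
  have hCD : C = D := by
    refine le_antisymm (fun y hy => ?_) hDC
    obtain ⟨g, hg⟩ : ∃ g, g ∉ C := by
      by_contra! h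
      exact hD fun x hx => Subgroup.mem_center_iff.2 fun g =>
        (Subgroup.mem_centralizer_iff.1 (h g) x hx).symm
    obtain ⟨d, hd, he⟩ := hsurj g hg (y * g * y⁻¹ * g⁻¹) (comm_mem y g)
    have hy'C : y * d ∈ C := C.mul_mem hy (hDC hd)
    have hy'g : g * (y * d) = (y * d) * g := by
      have hyd : d * y = y * d := Subgroup.mem_centralizer_iff.1 hy d hd
      have h1 : g * d * g⁻¹ = y * g * y⁻¹ * g⁻¹ * d := by rw [← he]; group
      have h2 : y * g * y⁻¹ * g⁻¹ * d = d * (y * g * y⁻¹ * g⁻¹) := hab _ (comm_mem y g) d hd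
      calc g * (y * d) = g * (d * y) := by rw [hyd]
        _ = (g * d * g⁻¹) * (g * y) := by group
        _ = d * (y * g * y⁻¹ * g⁻¹) * (g * y) := by rw [h1, h2]
        _ = (d * y) * g := by group
        _ = (y * d) * g := by rw [hyd]
    set y' := y * d with hy'
    have hyz : y' ∈ Subgroup.center Q := by
      refine Subgroup.mem_center_iff.2 fun h => ?_
      set z := y' * h * y'⁻¹ * h⁻¹ with hz
      have hzD : z ∈ D := comm_mem y' h
      have hm : g * h * g⁻¹ * h⁻¹ ∈ D := comm_mem g h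
      have hzm : g * z * g⁻¹ = z := by
        have hc : y' * (g * h * g⁻¹ * h⁻¹) = (g * h * g⁻¹ * h⁻¹) * y' :=
          (Subgroup.mem_centralizer_iff.1 hy'C _ hm).symm
        have hc2 : (g * h * g⁻¹ * h⁻¹) * z = z * (g * h * g⁻¹ * h⁻¹) := hab _ hm z hzD
        have hgy : g * y' * g⁻¹ = y' := by rw [hy'g, mul_inv_cancel_right]
        calc g * z * g⁻¹
            = (g * y' * g⁻¹) * (g * h * g⁻¹) * (g * y' * g⁻¹)⁻¹ * (g * h * g⁻¹)⁻¹ := by
              rw [hz]; group
          _ = (y' * (g * h * g⁻¹ * h⁻¹)) * h * y'⁻¹ * h⁻¹ * (g * h * g⁻¹ * h⁻¹)⁻¹ := by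
              rw [hgy]; group
          _ = ((g * h * g⁻¹ * h⁻¹) * y') * h * y'⁻¹ * h⁻¹ * (g * h * g⁻¹ * h⁻¹)⁻¹ := by rw [hc]
          _ = ((g * h * g⁻¹ * h⁻¹) * z) * (g * h * g⁻¹ * h⁻¹)⁻¹ := by rw [hz]; group
          _ = z := by rw [hc2, mul_inv_cancel_right]
      have hz1 : z = 1 := hfix g hg z hzD (mul_inv_eq_iff_eq_mul.1 hzm)
      rw [hz, mul_inv_eq_one, mul_inv_eq_iff_eq_mul] at hz1
      exact hz1.symm
    rw [hQ.center_eq_bot hD, Subgroup.mem_bot] at hyz
    rw [show y = d⁻¹ from eq_inv_of_mul_eq_one_left hyz]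
    exact D.inv_mem hd
  refine ⟨?_, fun g hg => hfix g (hCD ▸ hg), fun n hn => ?_⟩
  · by_contra hlt
    have h1 : D.index = 1 := by
      have := Subgroup.index_ne_zero_of_finite (H := D)
      omega
    rw [Subgroup.index_eq_one] at h1
    exact hQ.not_comm.elim fun a ⟨b, hne⟩ =>
      hne (hab a (by rw [h1]; exact Subgroup.mem_top a) b (by rw [h1]; exact Subgroup.mem_top b))
  letI : CommGroup D :=
    { (inferInstance : Group D) with mul_comm := fun a b => Subtype.ext (hab a a.2 b b.2) }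
  obtain ⟨d₀, hd₀⟩ := Subgroup.ne_bot_iff_exists_ne_one.1 hQ.ne
  obtain ⟨lam, hlam⟩ := CommGroup.exists_apply_ne_one_of_hasEnoughRootsOfUnity D ℂ hd₀
  have hθ : Cfsg.IsIrrCharacter D (fun x => (lam x : ℂ)) := isIrrCharacter_linear lam
  obtain ⟨χ, a, m, hχ, ha, hm, hm0, -⟩ := exists_over D hθ (d := 1) (by simp)
  have hT : ∀ g : Q, g ∈ D ↔ Clifford.conjBy D g (fun x => (lam x : ℂ)) = fun x => (lam x : ℂ) := by
    refine fun g => ⟨fun hg => funext fun x => ?_, fun h => ?_⟩
    · rw [Clifford.conjBy_apply]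
      refine congrArg (fun t => (lam t : ℂ)) (Subtype.ext ?_)
      show g * x * g⁻¹ = x
      rw [hab g hg x x.2, mul_inv_cancel_right]
    · by_contra hg
      refine hlam (Units.ext ?_)
      obtain ⟨d, hd, hde⟩ := hsurj g (hCD ▸ hg) d₀ d₀.2
      have h1 := congrFun h ⟨d, hd⟩
      rw [Clifford.conjBy_apply] at h1
      have h2 : (d₀ : D) = ⟨g * d * g⁻¹, hDn.conj_mem d hd g⟩ * (⟨d, hd⟩ : D)⁻¹ :=
        Subtype.ext hde.symm
      rw [h2, map_mul, map_inv, Units.val_mul, h1, ← Units.val_mul, mul_inv_cancel]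
  have h1 := Clifford.card_mul_degree D hχ hθ (by rw [hm]; exact Nat.cast_ne_zero.2 hm0) D hT
  rw [hm, ha] at h1
  simp only [map_one, Units.val_one, mul_one] at h1
  have h2 : Nat.card D * a = m * Nat.card Q := by exact_mod_cast h1
  rw [← Subgroup.index_mul_card D] at h2
  have h3 : a = m * D.index :=
    Nat.eq_of_mul_eq_mul_left (Nat.card_pos (α := D)) (by rw [h2]; ring)
  exact (Nat.le_mul_of_pos_left _ (Nat.pos_of_ne_zero hm0)).trans (h3 ▸ hn χ a hχ ha)

/-- The counting in a quotient with nonabelian derived subgroup. -/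
theorem card_bound (hQ : MinQ Q) (hns : ¬ Group.IsSolvable Q) {n : ℕ} (hn : 2 ≤ n) (hBd : Bd Q n)
    (hC : ∀ x : Q, x ≠ 1 → n ^ 2 < (ConjClasses.mk x).carrier.ncard ∨
      Nat.card (Subgroup.centralizer ({x} : Set Q)) ∣ n ^ 2) :
    Nat.card Q ≤ n ^ 4 ∧ n ≠ 2 ∧ n ≠ 3 ∧ (n = 4 → Nat.card Q ≤ 144) := by
  classical
  haveI := Fintype.ofFinite Q
  haveI := Fintype.ofFinite (Cfsg.IrrCharacter Q)
  haveI := Fintype.ofFinite (ConjClasses Q)
  have h60 : 60 ≤ Nat.card Q := by
    by_contra h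
    exact hns (Recognition.OrderSixty.isSolvable_of_card_lt (by omega))
  choose d hd0 hd using fun χ : Cfsg.IrrCharacter Q => irr_one_pos χ.2
  have hsq : ∑ χ, d χ ^ 2 = Nat.card Q := by
    have h := sum_degree_sq (G := Q)
    simp only [hd] at h
    exact_mod_cast h
  set T := Finset.univ.erase (trivIrr Q) with hT
  set J := T.card with hJ
  have hdT : ∑ χ ∈ T, d χ ^ 2 + 1 = Nat.card Q := by
    have h1 : d (trivIrr Q) = 1 := by
      have := hd (trivIrr Q)
      exact_mod_cast this.symm.trans (show ((trivIrr Q : Cfsg.IrrCharacter Q) : Q → ℂ) 1 = 1 from rfl)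
    rw [← hsq, ← Finset.add_sum_erase _ _ (Finset.mem_univ (trivIrr Q)), h1, one_pow, add_comm]
  have hup : Nat.card Q ≤ J * n ^ 2 + 1 := by
    rw [← hdT]
    refine Nat.add_le_add_right ?_ 1
    refine (Finset.sum_le_card_nsmul T _ (n ^ 2) fun χ _ => ?_).trans (le_of_eq (smul_eq_mul ..))
    exact Nat.pow_le_pow_left (hBd _ _ χ.2 (hd χ)) 2
  have hkJ : (Finset.univ.erase (ConjClasses.mk (1 : Q))).card = J := by
    rw [hJ, hT, Finset.card_erase_of_mem (Finset.mem_univ _),
      Finset.card_erase_of_mem (Finset.mem_univ _), Finset.card_univ, Finset.card_univ,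
      ← Nat.card_eq_fintype_card, ← Nat.card_eq_fintype_card, card_irrCharacter]
  have hlow : ∀ b : ℕ, (∀ x : Q, x ≠ 1 → b ≤ (ConjClasses.mk x).carrier.ncard) →
      J * b + 1 ≤ Nat.card Q := by
    intro b hb
    have h := Group.sum_card_conj_classes_eq_card Q
    rw [finsum_eq_sum_of_fintype,
      ← Finset.add_sum_erase _ _ (Finset.mem_univ (ConjClasses.mk (1 : Q)))] at h
    have h1 : 1 ≤ (ConjClasses.mk (1 : Q)).carrier.ncard :=
      (Set.ncard_pos (Set.toFinite _)).2 ⟨1, ConjClasses.mem_carrier_mk⟩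
    have h2 : J * b ≤ ∑ c ∈ Finset.univ.erase (ConjClasses.mk (1 : Q)), c.carrier.ncard := by
      rw [← hkJ, ← smul_eq_mul]
      refine Finset.card_nsmul_le_sum _ _ _ fun c hc => ?_
      obtain ⟨x, rfl⟩ := ConjClasses.mk_surjective c
      exact hb x fun h => (Finset.mem_erase.1 hc).1 (by rw [h])
    omega
  have hbig : ∀ b, n ^ 2 < b → ¬ ∀ x : Q, x ≠ 1 → b ≤ (ConjClasses.mk x).carrier.ncard := by
    intro b hb h
    have h1 := hlow b h
    have h2 : J * (n ^ 2 + 1) ≤ J * b := Nat.mul_le_mul_left J hb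
    have h3 : J = 0 := by nlinarith
    rw [h3, zero_mul] at hup
    omega
  have hsol : ∀ {p q a b : ℕ}, p.Prime → q.Prime → Nat.card Q ≠ p ^ a * q ^ b :=
    fun hp hq h => hns (burnside_pa_qb hp hq h)
  obtain ⟨x, hx, hs⟩ : ∃ x : Q, x ≠ 1 ∧ (ConjClasses.mk x).carrier.ncard ≤ n ^ 2 := by
    have := hbig (n ^ 2 + 1) (by omega)
    push Not at this
    obtain ⟨x, hx, hlt⟩ := this
    exact ⟨x, hx, by omega⟩
  have hN4 : Nat.card Q ≤ n ^ 4 := by
    rw [← natCard_class x]
    have h1 := Nat.le_of_dvd (by positivity) ((hC x hx).resolve_left (by omega))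
    calc _ ≤ n ^ 2 * n ^ 2 := Nat.mul_le_mul hs h1
      _ = n ^ 4 := by ring
  -- small centralisers give big classes
  have hclass : ∀ e, (∀ c, c ∣ n ^ 2 → c ∣ Nat.card Q → c ≤ e) →
      ∀ y : Q, y ≠ 1 → n ^ 2 < (ConjClasses.mk y).carrier.ncard ∨
        Nat.card Q ≤ (ConjClasses.mk y).carrier.ncard * e := by
    intro e he y hy
    refine (hC y hy).imp_right fun hdvd => ?_
    conv_lhs => rw [← natCard_class y]
    exact Nat.mul_le_mul_left _ (he _ hdvd (Subgroup.card_subgroup_dvd_card _))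
  refine ⟨hN4, ?_, ?_, ?_⟩
  · rintro rfl
    omega
  · rintro rfl
    by_cases h9 : 9 ∣ Nat.card Q
    · obtain ⟨t, ht⟩ := h9
      have h2 : Nat.Prime 2 := Nat.prime_two
      have h3 : Nat.Prime 3 := Nat.prime_three
      have h7 : Nat.Prime 7 := by norm_num
      have hcases : Nat.card Q = 63 ∨ Nat.card Q = 72 ∨ Nat.card Q = 81 := by omega
      rcases hcases with h | h | h
      · exact hsol h3 h7 (a := 2) (b := 1) (by rw [h]; norm_num)
      · exact hsol h2 h3 (a := 3) (b := 2) (by rw [h]; norm_num)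
      · exact hsol h2 h3 (a := 0) (b := 4) (by rw [h]; norm_num)
    · refine hbig 10 (by norm_num) fun y hy => ?_
      have h := hclass 3 (fun c hc hcN => by
        have : c ≤ 9 := Nat.le_of_dvd (by norm_num) hc
        interval_cases c <;> omega) y hy
      omega
  · rintro rfl
    by_contra h144
    push Not at h144
    by_cases h16 : 16 ∣ Nat.card Q
    · obtain ⟨t, ht⟩ := h16
      have h2 : Nat.Prime 2 := Nat.prime_two
      have hp : ∀ {p a b : ℕ}, p.Prime → Nat.card Q ≠ 2 ^ a * p ^ b := fun hp => hsol h2 hp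
      have hN240 : Nat.card Q = 240 := by
        have ht' : t ≤ 16 := by omega
        have ht'' : 10 ≤ t := by omega
        interval_cases t
        · exact absurd ht (hp (p := 5) (by norm_num) (a := 5) (b := 1))
        · exact absurd ht (hp (p := 11) (by norm_num) (a := 4) (b := 1))
        · exact absurd ht (hp (p := 3) (by norm_num) (a := 6) (b := 1))
        · exact absurd ht (hp (p := 13) (by norm_num) (a := 4) (b := 1))
        · exact absurd ht (hp (p := 7) (by norm_num) (a := 5) (b := 1))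
        · exact ht
        · exact absurd ht (hp (p := 3) (by norm_num) (a := 8) (b := 0))
      have h15 : J * 15 + 1 ≤ Nat.card Q := hlow 15 fun y hy => by
        have h := hclass 16 (fun c hc _ => Nat.le_of_dvd (by norm_num) hc) y hy
        omega
      have hJ15 : J = 15 := by omega
      by_cases hall : ∀ χ ∈ T, d χ = 4
      · rw [Finset.sum_congr rfl (g := fun _ => 4 ^ 2) fun χ hχ => by rw [hall χ hχ],
          Finset.sum_const, smul_eq_mul, ← hJ, hJ15, hN240] at hdT
        norm_num at hdT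
      · push Not at hall
        obtain ⟨χ, hχ, hne⟩ := hall
        rw [← Finset.add_sum_erase T _ hχ] at hdT
        have h1 : d χ ^ 2 ≤ 3 ^ 2 := Nat.pow_le_pow_left (by
          have := hBd _ _ χ.2 (hd χ); omega) 2
        have h3 : ∑ ψ ∈ T.erase χ, d ψ ^ 2 ≤ (T.erase χ).card * 4 ^ 2 :=
          (Finset.sum_le_card_nsmul _ _ _ fun ψ _ =>
            Nat.pow_le_pow_left (hBd _ _ ψ.2 (hd ψ)) 2).trans (le_of_eq (smul_eq_mul ..))
        rw [Finset.card_erase_of_mem hχ, ← hJ, hJ15] at h3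
        norm_num at h1 h3
        omega
    · refine hbig 17 (by norm_num) fun y hy => ?_
      have h := hclass 8 (fun c hc hcN => by
        have : c ≤ 16 := Nat.le_of_dvd (by norm_num) hc
        interval_cases c <;> omega) y hy
      omega

end Cfsg.Agent.BlocksChars.BoundedDegree
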