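import Mathlib
import Cfsg.Agent.BlocksChars.BoundedDegree.Quotient

/-!
# An abelian subgroup of index at most `(b!)²`
-/

set_option linter.style.haveILetI false
set_option linter.unusedSectionVars false

namespace Cfsg.Agent.BlocksChars.BoundedDegree

open Cfsg.Agent.Characters Cfsg.Agent.CharTheory
open scoped ComplexConjugate

universe u

theorem fact_pred {n : ℕ} (hn : 1 ≤ n) : n ^ 2 * (n - 1).factorial ^ 2 = n.factorial ^ 2 := by
  obtain ⟨k, rfl⟩ : ∃ k, n = k + 1 := ⟨n - 1, by omega⟩
  rw [Nat.add_sub_cancel, Nat.factorial_succ]; ring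

theorem fact_half_sq {n : ℕ} (hn : 2 ≤ n) :
    n ^ 2 * (n / 2).factorial ^ 2 ≤ n.factorial ^ 2 :=
  (Nat.mul_le_mul_left _ (Nat.pow_le_pow_left (Nat.factorial_le (by omega)) 2)).trans_eq
    (fact_pred (by omega))

theorem fact_half_cube {n : ℕ} (hn : 3 ≤ n) :
    n ^ 3 * (n / 2).factorial ^ 2 ≤ n.factorial ^ 2 := by
  obtain ⟨k, rfl⟩ : ∃ k, n = k + 2 := ⟨n - 2, by omega⟩
  have h1 : ((k + 2) / 2).factorial ≤ k.factorial := Nat.factorial_le (by omega)
  have h2 : (k + 2) ^ 3 ≤ (k + 2) ^ 2 * (k + 1) ^ 2 := by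
    rw [pow_succ (k + 2) 2]
    exact Nat.mul_le_mul_left _ (by nlinarith)
  rw [Nat.factorial_succ, Nat.factorial_succ]
  calc (k + 2) ^ 3 * ((k + 2) / 2).factorial ^ 2 ≤ ((k + 2) ^ 2 * (k + 1) ^ 2) * k.factorial ^ 2 :=
        Nat.mul_le_mul h2 (Nat.pow_le_pow_left h1 2)
    _ = ((k + 1 + 1) * ((k + 1) * k.factorial)) ^ 2 := by ring

theorem fact_half_four {n : ℕ} (hn : 5 ≤ n) :
    n ^ 4 * (n / 2).factorial ^ 2 ≤ n.factorial ^ 2 := by
  obtain ⟨k, rfl⟩ : ∃ k, n = k + 3 := ⟨n - 3, by omega⟩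
  have h1 : ((k + 3) / 2).factorial ≤ k.factorial := Nat.factorial_le (by omega)
  have h3 : (k + 3) ≤ (k + 2) * (k + 1) := by nlinarith
  rw [Nat.factorial_succ, Nat.factorial_succ, Nat.factorial_succ]
  calc (k + 3) ^ 4 * ((k + 3) / 2).factorial ^ 2
      ≤ ((k + 3) * ((k + 2) * (k + 1))) ^ 2 * k.factorial ^ 2 := by
        refine Nat.mul_le_mul ?_ (Nat.pow_le_pow_left h1 2)
        calc (k + 3) ^ 4 = ((k + 3) * (k + 3)) ^ 2 := by ring
          _ ≤ _ := Nat.pow_le_pow_left (Nat.mul_le_mul_left _ h3) 2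
    _ = ((k + 2 + 1) * ((k + 1 + 1) * ((k + 1) * k.factorial))) ^ 2 := by ring

variable {G : Type u} [Group G] [Fintype G]

theorem Bd.pred {n : ℕ} (h : Bd G n) (H : Subgroup G)
    (hno : ¬ ∃ ψ : H → ℂ, Cfsg.IsIrrCharacter H ψ ∧ ψ 1 = (n : ℂ)) : Bd H (n - 1) := by
  intro ψ d hψ hd
  have h1 := h.subgroup H ψ d hψ hd
  have : d ≠ n := fun e => hno ⟨ψ, hψ, e ▸ hd⟩
  omega

/-- One step of the induction. -/
theorem step {n : ℕ} (hn : 2 ≤ n) (hBd : Bd G n) (hna : ∃ a b : G, a * b ≠ b * a) :
    ∃ (H : Subgroup G) (n' : ℕ), n' < n ∧ Bd H n' ∧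
      H.index * n'.factorial ^ 2 ≤ n.factorial ^ 2 := by
  classical
  have hG : ¬ commutator G ≤ (⊥ : Subgroup G) := fun h => by
    obtain ⟨a, b, hab⟩ := hna
    have h1 : a * b * a⁻¹ * b⁻¹ = 1 := Subgroup.mem_bot.1 (h (comm_mem a b))
    rw [mul_inv_eq_one, mul_inv_eq_iff_eq_mul] at h1
    exact hab h1
  obtain ⟨K, -, hKmax⟩ := Finite.exists_le_maximal
    (p := fun K : Subgroup G => K.Normal ∧ ¬ commutator G ≤ K) (a := ⊥) ⟨inferInstance, hG⟩
  haveI hKn : K.Normal := hKmax.prop.1
  set π := QuotientGroup.mk' K with hπdef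
  have hπ : Function.Surjective π := QuotientGroup.mk'_surjective K
  have hπker : ∀ g, π g = 1 ↔ g ∈ K := fun g => QuotientGroup.eq_one_iff g
  have hcomm : Subgroup.map π (commutator G) = commutator (G ⧸ K) := by
    rw [commutator_def, commutator_def, Subgroup.map_commutator,
      Subgroup.map_top_of_surjective _ hπ]
  have hQ : MinQ (G ⧸ K) := by
    refine ⟨fun h => hKmax.prop.2 fun g hg => ?_, fun M hM hMne => ?_⟩
    · have : π g ∈ commutator (G ⧸ K) := hcomm ▸ Subgroup.mem_map_of_mem π hg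
      rwa [h, Subgroup.mem_bot, hπker] at this
    · by_contra hle
      have hKle : K ≤ M.comap π := fun g hg => by
        rw [Subgroup.mem_comap, (hπker g).2 hg]; exact M.one_mem
      have hle2 : ¬ commutator G ≤ M.comap π := fun h => hle (by
        rw [← hcomm]
        exact Subgroup.map_le_iff_le_comap.2 h)
      have heq : M.comap π ≤ K := hKmax.le_of_ge ⟨hM.comap π, hle2⟩ hKle
      refine hMne ((Subgroup.eq_bot_iff_forall M).2 fun x hx => ?_)
      obtain ⟨g, rfl⟩ := hπ x
      exact (hπker g).2 (heq hx)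
  have hBdQ := hBd.quotient K
  have hBdK : Bd K (n / 2) := hBd.half K hQ.not_comm
  have hlt : n / 2 < n := by omega
  have hKidx : K.index = Nat.card (G ⧸ K) := rfl
  by_cases hD : commutator (G ⧸ K) ≤ Subgroup.center (G ⧸ K)
  · obtain ⟨ρ, r, hρ, hr, hr2, hidx, habs⟩ := central_case hQ hD
    set H := (Subgroup.center (G ⧸ K)).comap π with hHdef
    haveI : H.Normal := by rw [hHdef]; infer_instance
    have hHidx : H.index = r ^ 2 := by
      rw [hHdef, Subgroup.index_comap_of_surjective _ hπ, hidx]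
    have hrn : r ≤ n := hBdQ ρ r hρ hr
    refine ⟨H, n / 2, hlt, fun ψ d hψ hd => ?_, ?_⟩
    · haveI := Fintype.ofFinite H
      obtain ⟨χ, a, m, hχ, ha, hm, hm0, hle⟩ := exists_over H hψ hd
      have han := hBd χ a hχ ha
      rw [Nat.le_div_iff_mul_le two_pos]
      by_contra hlt'
      have hm1 : m = 1 := by
        by_contra hne
        have : 2 * d ≤ m * d := Nat.mul_le_mul_right d (by omega)
        omega
      have hover : Cfsg.classInner (fun h : H => χ h) ψ ≠ 0 := by
        rw [hm]; exact Nat.cast_ne_zero.2 hm0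
      -- the only constituent, so the restriction is irreducible
      have had : a = d := by
        by_contra hne
        by_cases hinv : ∀ g : G, Clifford.conjBy H g ψ = ψ
        · have h1 := congrFun (Clifford.restrict_eq_smul_of_invariant H hχ hψ hover hinv) 1
          rw [hm, hm1, Pi.smul_apply, OneMemClass.coe_one, ha, hd, Nat.cast_one, one_smul,
            Nat.cast_inj] at h1
          exact hne h1
        · push Not at hinv
          obtain ⟨g, hg⟩ := hinv
          have hψ' := Clifford.isIrrCharacter_conjBy H g hψ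
          have hm' : Cfsg.classInner (fun h : H => χ h) (Clifford.conjBy H g ψ) = (m : ℂ) := by
            rw [Clifford.classInner_restrict_conjBy H
              (char_isClassFunction (isCharacter_of_isIrr hχ)), hm]
          obtain ⟨σ, hσ, he⟩ := Basics.eq_smul_of_degree
            (isCharacter_restrict H (isCharacter_of_isIrr hχ)) hψ hm
          have hσg : Cfsg.classInner σ (Clifford.conjBy H g ψ) = (m : ℂ) := by
            have e := congrArg (fun F => Cfsg.classInner F (Clifford.conjBy H g ψ)) he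
            simp only [classInner_add_left, classInner_smul_left,
              classInner_isIrr_ne hψ hψ' hg.symm, mul_zero, zero_add, hm'] at e
            exact e.symm
          obtain ⟨c, hc⟩ := char_one_nat hσ
          have hdc := Basics.degree_le hσ hψ' hσg hc
            (show Clifford.conjBy H g ψ 1 = (d : ℂ) by rw [Clifford.conjBy_at_one, hd])
          have h1 := congrFun he 1
          simp only [Pi.add_apply, Pi.smul_apply, smul_eq_mul, OneMemClass.coe_one, ha, hd, hc]
            at h1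
          have h2 : a = m * d + c := by exact_mod_cast h1
          subst hm1
          omega
      have hres := restrict_eq_of_degree H hχ hψ hover ha hd (le_of_eq had)
      have hirr := isIrr_mul_scalar H hχ (by rw [hres]; exact hψ)
        (η := ρ ∘ π) (isIrrCharacter_comp_surjective _ hπ hρ) fun h g => by
          simp only [Function.comp_apply, map_mul]
          exact habs (π h) h.2 (π g)
      have hdeg := hBd _ (r * d) hirr (by
        rw [Pi.mul_apply, Function.comp_apply, map_one, hr, ha, had, Nat.cast_mul])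
      have : 2 * d ≤ r * d := Nat.mul_le_mul_right d hr2
      omega
    · rw [hHidx]
      exact (Nat.mul_le_mul_right _ (Nat.pow_le_pow_left hrn 2)).trans (fact_half_sq hn)
  by_cases hab : ∀ a ∈ commutator (G ⧸ K), ∀ b ∈ commutator (G ⧸ K), a * b = b * a
  · obtain ⟨hi2, hfix, hdeg⟩ := abelian_case hQ hD hab
    set D := commutator (G ⧸ K) with hDdef
    haveI hDn : D.Normal := by rw [hDdef]; infer_instance
    set F := D.comap π with hFdef
    haveI : F.Normal := by rw [hFdef]; infer_instance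
    haveI := Fintype.ofFinite F
    have hrn : D.index ≤ n := hdeg n hBdQ
    have hFidx : F.index = D.index := by rw [hFdef, Subgroup.index_comap_of_surjective _ hπ]
    by_cases hgood : ¬ ∃ ψ : F → ℂ, Cfsg.IsIrrCharacter F ψ ∧ ψ 1 = (n : ℂ)
    · refine ⟨F, n - 1, by omega, hBd.pred F hgood, ?_⟩
      rw [hFidx, ← fact_pred (n := n) (by omega)]
      exact Nat.mul_le_mul_right _ (hrn.trans (Nat.le_self_pow two_ne_zero n))
    push Not at hgood
    obtain ⟨ψ, hψ, hψn⟩ := hgood
    obtain ⟨χ, a, m, hχ, ha, hm, hm0, -⟩ := exists_over F hψ hψn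
    have hres := restrict_eq_of_degree F hχ hψ (by rw [hm]; exact Nat.cast_ne_zero.2 hm0) ha hψn
      (hBd χ a hχ ha)
    have hψinv : ∀ g, Clifford.conjBy F g ψ = ψ := fun g => by
      rw [← hres]
      exact Clifford.conjBy_restrict F (char_isClassFunction (isCharacter_of_isIrr hχ)) g
    let πF : F →* D := (π.comp F.subtype).codRestrict D fun x => x.2
    letI : CommGroup D :=
      { (inferInstance : Group D) with mul_comm := fun a b => Subtype.ext (hab a a.2 b b.2) }
    let lift : (D →* ℂˣ) → F → ℂ := fun μ x => (μ (πF x) : ℂ)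
    obtain ⟨d₀, hd₀⟩ := Subgroup.ne_bot_iff_exists_ne_one.1 hQ.ne
    obtain ⟨lam, hlam⟩ := CommGroup.exists_apply_ne_one_of_hasEnoughRootsOfUnity D ℂ hd₀
    let cD : G ⧸ K → (D →* D) := fun g =>
      { toFun := fun x => ⟨g * x * g⁻¹, hDn.conj_mem x x.2 g⟩
        map_one' := Subtype.ext (by simp)
        map_mul' := fun a b => Subtype.ext (by simp) }
    have hθ : Cfsg.IsIrrCharacter F (ψ * lift lam) :=
      Basics.isIrr_mul_linear hψ (isCharacter_linear (lam.comp πF)) (by simp [lift])
    -- some outside element fixes the twist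
    obtain ⟨g, hg, hgfix⟩ : ∃ g, g ∉ F ∧
        Clifford.conjBy F g (ψ * lift lam) = ψ * lift lam := by
      by_contra! hno
      obtain ⟨χ', a', m', hχ', ha', hm', hm'0, -⟩ := exists_over F hθ (d := n)
        (by simp [lift, hψn])
      have hT : ∀ g, g ∈ F ↔ Clifford.conjBy F g (ψ * lift lam) = ψ * lift lam :=
        fun g => ⟨fun hg => funext fun x =>
          char_isClassFunction (isCharacter_of_isIrr hθ) x ⟨g, hg⟩,
          fun h => by_contra fun hg => hno g hg h⟩
      have h1 := Clifford.card_mul_degree F hχ' hθ (by rw [hm']; exact Nat.cast_ne_zero.2 hm'0) F hT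
      rw [hm', ha', show (ψ * lift lam) 1 = (n : ℂ) by simp [lift, hψn]] at h1
      have h2 : Nat.card F * a' = m' * (Nat.card G * n) := by exact_mod_cast h1
      rw [← Subgroup.index_mul_card F, hFidx] at h2
      have h3 : a' = m' * (D.index * n) :=
        Nat.eq_of_mul_eq_mul_left (Nat.card_pos (α := F)) (by rw [h2]; ring)
      have h4 := hBd χ' a' hχ' ha'
      have h5 : 2 * n ≤ D.index * n := Nat.mul_le_mul_right n hi2
      have h6 : D.index * n ≤ m' * (D.index * n) :=
        Nat.le_mul_of_pos_left _ (Nat.pos_of_ne_zero hm'0)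
      omega
    set μ := lam.comp (cD (π g)) * lam⁻¹ with hμ
    have hμW : ∀ x : F, ψ x * lift μ x = ψ x := by
      intro x
      have h1 := congrFun hgfix x
      rw [Clifford.conjBy_apply, Pi.mul_apply, Pi.mul_apply] at h1
      have h2 : ψ ⟨g * x * g⁻¹, Subgroup.Normal.conj_mem inferInstance _ x.2 g⟩ = ψ x :=
        congrFun (hψinv g) x
      rw [h2] at h1
      have h3 : lift μ x =
          lift lam ⟨g * x * g⁻¹, Subgroup.Normal.conj_mem inferInstance _ x.2 g⟩ *
            (lift lam x)⁻¹ := by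
        simp only [lift, hμ, MonoidHom.mul_apply, MonoidHom.comp_apply, MonoidHom.inv_apply,
          Units.val_mul, Units.val_inv_eq_inv_val]
        congr 3
      rw [h3, ← mul_assoc, h1, mul_inv_cancel_right₀ (Units.ne_zero _)]
    have hμ1 : μ ≠ 1 := fun h => hlam (by
      have hf : ∀ d, lam (cD (π g) d) = lam d := fun d => by
        have h1 := DFunLike.congr_fun h d
        rwa [hμ, MonoidHom.mul_apply, MonoidHom.comp_apply, MonoidHom.inv_apply,
          MonoidHom.one_apply, mul_inv_eq_one] at h1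
      let f : D → D := fun d => cD (π g) d * d⁻¹
      have hf2 : Function.Injective f := fun x y hxy => by
        have h4 : cD (π g) (y⁻¹ * x) = y⁻¹ * x := by
          have hx : cD (π g) x * x⁻¹ = cD (π g) y * y⁻¹ := hxy
          rw [map_mul, map_inv, inv_mul_eq_iff_eq_mul, ← mul_assoc]
          exact mul_inv_eq_iff_eq_mul.1 hx
        have h5 : π g * ((y⁻¹ * x : D) : G ⧸ K) * (π g)⁻¹ = ((y⁻¹ * x : D) : G ⧸ K) :=
          congrArg Subtype.val h4
        have h6 := hfix (π g) hg _ (y⁻¹ * x).2 (mul_inv_eq_iff_eq_mul.1 h5)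
        exact (inv_mul_eq_one.1 (Subtype.ext h6 : y⁻¹ * x = 1)).symm
      obtain ⟨d, hd⟩ := Finite.injective_iff_surjective.1 hf2 d₀
      rw [← hd, map_mul, map_inv, hf, mul_inv_cancel])
    let Y : Subgroup (G ⧸ K) :=
      { carrier := {x | ∃ hx : x ∈ D, ∀ ν : D →* ℂˣ, (∀ y : F, ψ y * lift ν y = ψ y) →
          ν ⟨x, hx⟩ = 1}
        one_mem' := ⟨D.one_mem, fun ν _ => by
          rw [show (⟨1, D.one_mem⟩ : D) = 1 from rfl, map_one]⟩
        mul_mem' := fun {a b} ⟨ha, h1⟩ ⟨hb, h2⟩ => ⟨D.mul_mem ha hb, fun ν hν => by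
          rw [show (⟨a * b, D.mul_mem ha hb⟩ : D) = ⟨a, ha⟩ * ⟨b, hb⟩ from rfl, map_mul, h1 ν hν,
            h2 ν hν, mul_one]⟩
        inv_mem' := fun {a} ⟨ha, h1⟩ => ⟨D.inv_mem ha, fun ν hν => by
          rw [show (⟨a⁻¹, D.inv_mem ha⟩ : D) = (⟨a, ha⟩ : D)⁻¹ from rfl, map_inv, h1 ν hν,
            inv_one]⟩ }
    have hYn : Y.Normal := ⟨fun x ⟨hx, h1⟩ k => ⟨hDn.conj_mem x hx k, fun ν hν => by
      obtain ⟨k, rfl⟩ := hπ k
      refine h1 (ν.comp (cD (π k))) fun y => ?_
      have h2 := hν ⟨k * y * k⁻¹, Subgroup.Normal.conj_mem inferInstance _ y.2 k⟩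
      have h3 : ψ ⟨k * y * k⁻¹, Subgroup.Normal.conj_mem inferInstance _ y.2 k⟩ = ψ y :=
        congrFun (hψinv k) y
      rw [h3] at h2
      refine Eq.trans ?_ h2
      simp only [lift, MonoidHom.comp_apply]
      congr 3⟩⟩
    have hY : Y = ⊥ := by
      by_contra hne
      have hle := hQ.min Y hYn hne
      refine hμ1 (MonoidHom.ext fun d => ?_)
      obtain ⟨_, h1⟩ := hle d.2
      rw [MonoidHom.one_apply]
      exact h1 μ hμW
    have hvan : ∀ x : F, (x : G) ∉ K → ψ x = 0 := fun x hx => by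
      by_contra h0
      refine hx ((hπker x).1 ?_)
      have hmem : π (x : G) ∈ Y := ⟨x.2, fun ν hν => by
        have h1 := hν x
        have h2 : lift ν x = 1 := mul_left_cancel₀ h0 (h1.trans (mul_one _).symm)
        exact Units.ext h2⟩
      rwa [hY, Subgroup.mem_bot] at hmem
    have hKF : K ≤ F := fun x hx => by
      rw [hFdef, Subgroup.mem_comap, (hπker x).2 hx]; exact D.one_mem
    have hdvd := relIndex_dvd_sq K F hKF hψ hψn hvan
    have hrel : K.relIndex F = Nat.card D := by
      have h1 := Subgroup.relIndex_mul_index hKF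
      rw [hFidx, hKidx, ← Subgroup.index_mul_card D, mul_comm D.index] at h1
      exact Nat.eq_of_mul_eq_mul_right (by omega) h1
    rw [hrel] at hdvd
    have hn2 : n ≠ 2 := by
      rintro rfl
      have hidx2 : D.index = 2 := by omega
      obtain ⟨g₁, hg₁⟩ : ∃ g₁, g₁ ∉ D := by
        by_contra! h
        have h1 : D.index = 1 := Subgroup.index_eq_one.2 (Subgroup.eq_top_iff' _ |>.2 h)
        omega
      have hD1 : 1 < Nat.card D := (Subgroup.one_lt_card_iff_ne_bot D).2 hQ.ne
      have h2 : 2 ∣ Nat.card D := by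
        have : Nat.card D ≤ 4 := Nat.le_of_dvd (by norm_num) hdvd
        interval_cases hc : Nat.card D <;> omega
      haveI := Fact.mk Nat.prime_two
      obtain ⟨d, hd⟩ := exists_prime_orderOf_dvd_card' 2 h2
      have hdd : (d : G ⧸ K) * d = 1 := by
        have h3 := pow_orderOf_eq_one d
        rw [hd, pow_two] at h3
        exact congrArg Subtype.val h3
      have hsq : g₁ * g₁ ∈ D := (Subgroup.mul_mem_iff_of_index_two hidx2).2 Iff.rfl
      have hc : g₁ * d * g₁⁻¹ ∈ D := hDn.conj_mem _ d.2 g₁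
      have h3 : g₁ * ((d : G ⧸ K) * (g₁ * d * g₁⁻¹)) * g₁⁻¹ = (d : G ⧸ K) * (g₁ * d * g₁⁻¹) := by
        have h4 : (g₁ * g₁) * (d : G ⧸ K) * (g₁ * g₁)⁻¹ = d := by
          rw [hab _ hsq d d.2, mul_inv_cancel_right]
        calc g₁ * ((d : G ⧸ K) * (g₁ * d * g₁⁻¹)) * g₁⁻¹
            = (g₁ * d * g₁⁻¹) * ((g₁ * g₁) * d * (g₁ * g₁)⁻¹) := by group
          _ = (g₁ * d * g₁⁻¹) * d := by rw [h4]
          _ = _ := hab _ hc _ d.2
      have h5 := hfix g₁ hg₁ _ (D.mul_mem d.2 hc) (mul_inv_eq_iff_eq_mul.1 h3)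
      have h6 : g₁ * (d : G ⧸ K) * g₁⁻¹ = d :=
        (eq_inv_of_mul_eq_one_right h5).trans (eq_inv_of_mul_eq_one_left hdd).symm
      have h7 : d = 1 := Subtype.ext (hfix g₁ hg₁ _ d.2 (mul_inv_eq_iff_eq_mul.1 h6))
      rw [h7, orderOf_one] at hd
      omega
    refine ⟨K, n / 2, hlt, hBdK, ?_⟩
    refine le_trans (Nat.mul_le_mul_right _ ?_) (fact_half_cube (n := n) (by omega))
    rw [hKidx, ← Subgroup.index_mul_card D]
    calc D.index * Nat.card D ≤ n * n ^ 2 :=
          Nat.mul_le_mul hrn (Nat.le_of_dvd (by positivity) hdvd)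
      _ = n ^ 3 := by ring
  -- nonabelian derived subgroup
  have hns : ¬ Group.IsSolvable (G ⧸ K) := fun hs => by
    have hperf : ⁅commutator (G ⧸ K), commutator (G ⧸ K)⁆ = commutator (G ⧸ K) := by
      refine le_antisymm (Subgroup.commutator_le_self _) (hQ.min _ inferInstance fun h => hab ?_)
      rw [Subgroup.commutator_eq_bot_iff_le_centralizer] at h
      exact fun a ha b hb => (Subgroup.mem_centralizer_iff.1 (h ha) b hb).symm
    have hser : ∀ j, derivedSeries (G ⧸ K) (j + 1) = commutator (G ⧸ K) := fun j => by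
      induction j with
      | zero => rw [derivedSeries_one]
      | succ i hi => rw [derivedSeries_succ, hi, hperf]
    obtain ⟨j, hj⟩ := (Group.isSolvable_def _).1 hs
    have := derivedSeries_antitone (G ⧸ K) (Nat.le_succ j)
    rw [hser j, hj, le_bot_iff] at this
    exact hQ.ne this
  by_cases hsmall : ∃ x : G ⧸ K, x ≠ 1 ∧ (ConjClasses.mk x).carrier.ncard ≤ n ^ 2 ∧
      ¬ ∃ ψ : (Subgroup.centralizer ({x} : Set (G ⧸ K))).comap π → ℂ,
        Cfsg.IsIrrCharacter _ ψ ∧ ψ 1 = (n : ℂ)
  · obtain ⟨x, -, hs, hno⟩ := hsmall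
    refine ⟨_, n - 1, by omega, hBd.pred _ hno, ?_⟩
    rw [Subgroup.index_comap_of_surjective _ hπ, ← fact_pred (n := n) (by omega)]
    refine Nat.mul_le_mul_right _ (le_trans (le_of_eq ?_) hs)
    have h1 := natCard_class x
    rw [← Subgroup.index_mul_card (Subgroup.centralizer ({x} : Set (G ⧸ K)))] at h1
    exact (Nat.eq_of_mul_eq_mul_right Nat.card_pos h1).symm
  push Not at hsmall
  have hC : ∀ x : G ⧸ K, x ≠ 1 → n ^ 2 < (ConjClasses.mk x).carrier.ncard ∨
      Nat.card (Subgroup.centralizer ({x} : Set (G ⧸ K))) ∣ n ^ 2 := by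
    intro x hx
    refine (lt_or_ge (n ^ 2) _).imp id fun hle => ?_
    obtain ⟨ψ, hψ, hψn⟩ := hsmall x hx hle
    set C := Subgroup.centralizer ({x} : Set (G ⧸ K)) with hC
    haveI := Fintype.ofFinite (C.comap π)
    have hKH : K ≤ C.comap π := fun k hk => by
      rw [Subgroup.mem_comap, (hπker k).2 hk]; exact C.one_mem
    have hdvd := relIndex_dvd_sq K (C.comap π) hKH hψ hψn fun h hh => by
      by_contra h0
      have hcore : π (h : G) ∈ C.normalCore := fun b => by
        obtain ⟨g, rfl⟩ := hπ b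
        by_contra hb
        refine h0 (vanish_of_extends hBd (C.comap π) hψ hψn h (g := g⁻¹) fun hmem => hb ?_)
        rw [inv_inv, Subgroup.mem_comap, map_mul, map_mul, map_inv] at hmem
        exact hmem
      have hne : C.normalCore ≠ ⊥ := fun e => hh ((hπker _).1 (by
        rwa [e, Subgroup.mem_bot] at hcore))
      have hDC : commutator (G ⧸ K) ≤ C :=
        (hQ.min _ inferInstance hne).trans (Subgroup.normalCore_le C)
      have hxC : x ∈ Subgroup.centralizer (commutator (G ⧸ K) : Set (G ⧸ K)) :=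
        Subgroup.mem_centralizer_iff.2 fun y hy =>
          Subgroup.mem_centralizer_singleton_iff.1 (hDC hy)
      have hle2 := hQ.min _ (inferInstance :
        (Subgroup.centralizer (commutator (G ⧸ K) : Set (G ⧸ K))).Normal)
        fun e => hx (by rwa [e, Subgroup.mem_bot] at hxC)
      exact hab fun a ha b hb => (Subgroup.mem_centralizer_iff.1 (hle2 ha) b hb).symm
    have hrel : K.relIndex (C.comap π) = Nat.card C := by
      have h1 := Subgroup.relIndex_mul_index hKH
      rw [Subgroup.index_comap_of_surjective _ hπ, hKidx, ← Subgroup.index_mul_card C,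
        mul_comm C.index] at h1
      exact Nat.eq_of_mul_eq_mul_right (Nat.pos_of_ne_zero Subgroup.index_ne_zero_of_finite) h1
    rwa [hrel] at hdvd
  obtain ⟨hN4, hn2, hn3, hn4⟩ := card_bound hQ hns hn hBdQ hC
  refine ⟨K, n / 2, hlt, hBdK, ?_⟩
  rw [hKidx]
  rcases Nat.lt_or_ge n 5 with h5 | h5
  · obtain rfl : n = 4 := by omega
    have := hn4 rfl
    calc Nat.card (G ⧸ K) * (4 / 2).factorial ^ 2 ≤ 144 * (4 / 2).factorial ^ 2 :=
          Nat.mul_le_mul_right _ this
      _ ≤ _ := by decide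
  · exact (Nat.mul_le_mul_right _ hN4).trans (fact_half_four h5)

/-- Bounded degrees give an abelian subgroup of bounded index. -/
theorem exists_abelian (n : ℕ) : ∀ (G : Type u) [Group G] [Fintype G], Bd G n →
    ∃ A : Subgroup G, (∀ x ∈ A, ∀ y ∈ A, x * y = y * x) ∧ A.index ≤ n.factorial ^ 2 := by
  classical
  induction n using Nat.strong_induction_on with
  | _ n ih =>
    intro G _ _ hBd
    by_cases hna : ∃ a b : G, a * b ≠ b * a
    · have hn : 2 ≤ n := by
        by_contra h
        obtain ⟨a, b, hab⟩ := hna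
        exact hab (isCommutative_of_bd hBd (by omega) a b)
      obtain ⟨H, n', hlt, hH, hle⟩ := step hn hBd hna
      obtain ⟨A, hA, hAi⟩ := ih n' hlt H hH
      refine ⟨A.map H.subtype, ?_, ?_⟩
      · rintro _ ⟨x, hx, rfl⟩ _ ⟨y, hy, rfl⟩
        exact congrArg Subtype.val (hA x hx y hy)
      · rw [Subgroup.index_map_subtype, mul_comm]
        exact (Nat.mul_le_mul_left _ hAi).trans hle
    · push Not at hna
      exact ⟨⊤, fun x _ y _ => hna x y, by
        rw [Subgroup.index_top]; exact Nat.one_le_pow _ _ (Nat.factorial_pos n)⟩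

end Cfsg.Agent.BlocksChars.BoundedDegree
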